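import Groth.Agent.SurfInt.Adj.RR
import Groth.Agent.SurfInt.Conn
import Groth.Agent.GeomField.Reduced
import Groth.Agent.S2501
import Groth.Agent.S1536

/-! Consequences of Riemann–Roch. -/

noncomputable section

set_option linter.style.haveILetI false
set_option linter.unusedSectionVars false
set_option backward.isDefEq.respectTransparency false
set_option backward.isDefEq.respectTransparency.types false

universe u

open CategoryTheory CategoryTheory.Limits AlgebraicGeometry TopologicalSpace Opposite

namespace Groth.Agent.SurfInt.Adj

open Groth.Agent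

variable (k : Type u) [Field k] {X : Scheme.{u}} [X.Over (Spec (CommRingCat.of k))]
  [IsProper (X ↘ Spec (CommRingCat.of k))] [IsAlgClosed k] [IsIntegral X]

theorem finrank_h0_integral (C : Scheme.{u}) [C.Over (Spec (CommRingCat.of k))]
    [IsProper (C ↘ Spec (CommRingCat.of k))] [IsIntegral C] :
    Module.finrank k (Coh.HH C (Coh.structureModule C) 0) = 1 := by
  haveI : GeometricallyReduced (C ↘ Spec (CommRingCat.of k)) :=
    (GeomField.geometricallyReduced_iff (k := k) (X := C)).2 fun x => GeomField.isGeomReducedAt_of_perfect x
  haveI := S2501.result (C ↘ Spec (CommRingCat.of k))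
  exact S1536.result k C

/-- The Euler characteristic of an integral curve. -/
theorem euler_quot_integral {C : Scheme.{u}} [C.Over (Spec (CommRingCat.of k))] (i : C ⟶ X) [IsClosedImmersion i]
    [IsIntegral C] (hi : i ≫ (X ↘ Spec (CommRingCat.of k)) = C ↘ Spec (CommRingCat.of k))
    (hC : topologicalKrullDim C = 1) :
    Curv2.euler k X (ClSub.quotMod i.ker) = 1 - (Curv2.genus k C : ℤ) := by
  haveI := isProper_comp k i hi
  haveI := noeth k (X := C)
  rw [CurveCohLib.euler_congr (k := k) (nonempty_quotMod_iso i).some, euler_push_structure k i hi]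
  exact CurveCohLib.Nonspecial.euler_structure k hC (finrank_h0_integral k C)

theorem euler_quot_curve (C : X.IdealSheafData) [IsIntegral C.subscheme]
    (hC : topologicalKrullDim (C.support : Set X) = 1) :
    letI := overComp k C.subschemeι
    Curv2.euler k X (ClSub.quotMod C) = 1 - (Curv2.genus k C.subscheme : ℤ) := by
  letI := overComp k C.subschemeι
  have h := euler_quot_integral k C.subschemeι rfl ((dim_subscheme C).trans hC)
  rwa [C.ker_subschemeι] at h

theorem genus_eq_zero (C : X.IdealSheafData)
    (h : Subsingleton (Coh.HH C.subscheme (Coh.structureModule C.subscheme) 1)) :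
    letI := overComp k C.subschemeι
    Curv2.genus k C.subscheme = 0 := by
  letI := overComp k C.subschemeι
  haveI := h
  exact Module.finrank_zero_of_subsingleton

variable (hdim : topologicalKrullDim X = 2) (hreg : ∀ x : X, IsRegularLocalRing (X.presheaf.stalk x))
  {W : X.Modules} (hW : ExtPow.IsExtPow 2 (Omega.sheaf (X ↘ Spec (CommRingCat.of k))) W)

include hdim hreg hW

/-- Riemann–Roch on a smooth proper surface. -/
theorem riemann_roch' {L : X.Modules} (hL : PicF.IsInvertible L) :
    2 * Curv2.euler k X L = dot k L L - dot k L W + 2 * Curv2.euler k X (Coh.structureModule X) := by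
  obtain ⟨H, hH⟩ := exists_ample k hdim hreg
  exact riemann_roch k hdim hreg hW hH hL

/-- The adjunction formula for effective divisors. -/
theorem adjunction_euler (Z : X.IdealSheafData) (hZ : PicF.IsInvertible (ClSub.idealMod Z)) :
    dot k (ClSub.idealMod Z) (ClSub.idealMod Z) - dot k (ClSub.idealMod Z) W =
      -2 * Curv2.euler k X (ClSub.quotMod Z) := by
  have h1 := riemann_roch' k hdim hreg hW hZ
  have h2 := euler_quotMod k Z
  linarith

/-- Adjunction for an integral curve, in degrees. -/
theorem degOn_curve (C : X.IdealSheafData) [IsIntegral C.subscheme]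
    (hC : topologicalKrullDim (C.support : Set X) = 1) :
    letI := overComp k C.subschemeι
    degOn k (ClSub.quotMod C) W - degOn k (ClSub.quotMod C) (ClSub.idealMod C) =
      2 * (Curv2.genus k C.subscheme : ℤ) - 2 := by
  letI := overComp k C.subschemeι
  have hI := isInvertible_curve k hdim hreg C hC
  have h1 := adjunction_euler k hdim hreg hW C hI
  rw [dot_ideal_left k hdim.le C hI hI, dot_ideal_left k hdim.le C hI (isInvertible_canonical k hdim hreg hW),
    euler_quot_curve k C hC] at h1
  linarith

end Groth.Agent.SurfInt.Adj
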