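import Groth.Agent.H23.Frame
import Groth.Agent.InvX.Tensor
import Mathlib.LinearAlgebra.ExteriorPower.Basic
import Mathlib.RingTheory.FiniteType
import Mathlib.LinearAlgebra.Determinant
import Groth.Prelude.Def_ExtPow2
import Groth.Agent.Synt29.OmegaStalk

/-! Wedges of two sections and frames on affine opens. -/

noncomputable section

set_option linter.style.haveILetI false
set_option linter.unusedSectionVars false
set_option backward.isDefEq.respectTransparency false
set_option backward.isDefEq.respectTransparency.types false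

universe u

open CategoryTheory CategoryTheory.Limits AlgebraicGeometry TopologicalSpace Opposite

namespace Groth.Agent.SurfInt.Adj

open Groth.Agent

section Alg

variable {R : Type*} {M : Type*} [CommRing R] [AddCommGroup M] [Module R M]

/-- The wedge of two elements. -/
def wedge (a b : M) : ↥(⋀[R]^2 M) := exteriorPower.ιMulti R 2 ![a, b]

theorem wedge_add_left (a a' b : M) : wedge (R := R) (a + a') b = wedge a b + wedge a' b := by
  show (exteriorPower.ιMulti R 2).curryLeft (a + a') ![b] = _
  rw [map_add]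
  rfl

theorem wedge_smul_left (r : R) (a b : M) : wedge (R := R) (r • a) b = r • wedge a b := by
  show (exteriorPower.ιMulti R 2).curryLeft (r • a) ![b] = _
  rw [map_smul]
  rfl

theorem wedge_self (a : M) : wedge (R := R) a a = 0 :=
  (exteriorPower.ιMulti R 2).map_eq_zero_of_eq _ (i := 0) (j := 1) rfl (by decide)

theorem wedge_swap (a b : M) : wedge (R := R) b a = - wedge a b := by
  have h := (exteriorPower.ιMulti R 2).map_swap ![a, b] (i := 0) (j := 1) (by decide)
  have e : (![a, b] ∘ Equiv.swap (0 : Fin 2) 1) = ![b, a] := by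
    funext j; fin_cases j <;> simp
  rw [e] at h
  exact h

theorem wedge_add_right (a b b' : M) : wedge (R := R) a (b + b') = wedge a b + wedge a b' := by
  rw [wedge_swap (b + b') a, wedge_add_left, neg_add, ← wedge_swap b a, ← wedge_swap b' a]

theorem wedge_smul_right (r : R) (a b : M) : wedge (R := R) a (r • b) = r • wedge a b := by
  rw [wedge_swap (r • b) a, wedge_smul_left, wedge_swap b a, smul_neg]

theorem wedge_comb (a b : M) (x y z w : R) :
    wedge (R := R) (x • a + y • b) (z • a + w • b) = (x * w - y * z) • wedge a b := by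
  simp only [wedge_add_left, wedge_add_right, wedge_smul_left, wedge_smul_right, wedge_self,
    smul_zero, zero_add, add_zero, wedge_swap a b]
  module

theorem bijective_smul_wedge (b : Module.Basis (Fin 2) R M) :
    Function.Bijective fun c : R => c • wedge (R := R) (b 0) (b 1) := by
  refine ⟨fun c c' h => ?_, fun z => ?_⟩
  · let l : ↥(⋀[R]^2 M) →ₗ[R] R := exteriorPower.alternatingMapLinearEquiv b.det
    have hl : l (wedge (b 0) (b 1)) = 1 := by
      rw [show l (wedge (b 0) (b 1)) = b.det ![b 0, b 1] from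
        exteriorPower.alternatingMapLinearEquiv_apply_ιMulti _ _]
      have e : (![b 0, b 1] : Fin 2 → M) = b := by funext j; fin_cases j <;> rfl
      rw [e, Module.Basis.det_self]
    have h' := congrArg l h
    simpa [hl] using h'
  · have hz : z ∈ Submodule.span R (Set.range (exteriorPower.ιMulti R 2 (M := M))) := by
      rw [exteriorPower.ιMulti_span]; exact Submodule.mem_top
    induction hz using Submodule.span_induction with
    | mem v hv =>
      obtain ⟨v, rfl⟩ := hv
      refine ⟨b.repr (v 0) 0 * b.repr (v 1) 1 - b.repr (v 0) 1 * b.repr (v 1) 0, ?_⟩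
      have e : ∀ m : M, b.repr m 0 • b 0 + b.repr m 1 • b 1 = m := fun m => by
        rw [← Fin.sum_univ_two (f := fun j => b.repr m j • b j), b.sum_repr]
      show _ • wedge (R := R) (b 0) (b 1) = _
      rw [← wedge_comb, e, e]
      exact congrArg (exteriorPower.ιMulti R 2) (show ![v 0, v 1] = v by ext j; fin_cases j <;> rfl)
    | zero => exact ⟨0, zero_smul _ _⟩
    | add x y _ _ hx hy =>
      obtain ⟨c, rfl⟩ := hx; obtain ⟨d, rfl⟩ := hy; exact ⟨c + d, add_smul _ _ _⟩
    | smul r x _ hx => obtain ⟨c, rfl⟩ := hx; exact ⟨r * c, mul_smul _ _ _⟩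

end Alg

open AModX

variable {X : Scheme.{u}} {M : X.Modules}

/-- A frame is detected on affine opens. -/
theorem isFrame_of_affine {U : X.Opens} {e : Γ(M, U)}
    (h : ∀ (V : X.affineOpens) (hV : V.1 ≤ U), Function.Bijective fun c : Γ(X, V.1) => c • res M hV e) :
    InvX.IsFrame e := by
  refine InvX.isFrame_of_germ fun x hx => ⟨fun a b hab => ?_, fun m => ?_⟩
  · obtain ⟨W, hW, s, t, rfl, rfl⟩ := Synt29.OmegaStalk.exists_germ_pair x a b
    obtain ⟨_, ⟨V, hV, rfl⟩, hxV, hVle⟩ :=
      X.isBasis_affineOpens.exists_subset_of_mem_open (show x ∈ (U ⊓ W : X.Opens) from ⟨hx, hW⟩) (U ⊓ W).isOpen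
    have hVU : V ≤ U := fun z hz => (hVle hz).1
    have hVW : V ≤ W := fun z hz => (hVle hz).2
    have h1 : M.presheaf.germ V x hxV (resR hVW s • res M hVU e) =
        M.presheaf.germ V x hxV (resR hVW t • res M hVU e) := by
      rw [QCoh.germ_smul', QCoh.germ_smul', InvX.germ_res', InvX.germ_resR', InvX.germ_resR']
      exact hab
    obtain ⟨W', hW', i, j, hij⟩ :=
      TopCat.Presheaf.germ_eq (C := AddCommGrpCat.{u}) M.presheaf x hxV hxV _ _ h1
    obtain ⟨_, ⟨V', hV', rfl⟩, hxV', hVle'⟩ :=
      X.isBasis_affineOpens.exists_subset_of_mem_open (show x ∈ (W' : X.Opens) from hW') W'.isOpen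
    have hij' := congrArg (res M (show V' ≤ W' from hVle')) (show res M i.le _ = res M j.le _ from hij)
    simp only [res_smul, res_res, resR_resR] at hij'
    have h2 := congrArg (X.presheaf.germ V' x hxV')
      ((h ⟨V', hV'⟩ ((show V' ≤ W' from hVle').trans (i.le.trans hVU))).1 hij')
    rwa [InvX.germ_resR', InvX.germ_resR'] at h2
  · obtain ⟨W, hW, s, rfl⟩ := Synt29.OmegaStalk.gm_surjective M (x := x) m
    obtain ⟨_, ⟨V, hV, rfl⟩, hxV, hVle⟩ :=
      X.isBasis_affineOpens.exists_subset_of_mem_open (show x ∈ (U ⊓ W : X.Opens) from ⟨hx, hW⟩) (U ⊓ W).isOpen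
    have hVU : V ≤ U := fun z hz => (hVle hz).1
    obtain ⟨c, hc⟩ := (h ⟨V, hV⟩ hVU).2 (res M (show V ≤ W from fun z hz => (hVle hz).2) s)
    refine ⟨X.presheaf.germ V x hxV c, ?_⟩
    show _ • M.presheaf.germ U x hx e = _
    rw [← InvX.germ_res' hVU hxV e, ← QCoh.germ_smul']
    exact (congrArg (M.presheaf.germ V x hxV) hc).trans (InvX.germ_res' _ _ _)

/-- The linear combinations of a family of sections, as a linear map. -/
def combLin {n : ℕ} {U : X.Opens} (t : Fin n → Γ(M, U)) {W : X.Opens} (h : W ≤ U) :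
    (Fin n → Γ(X, W)) →ₗ[Γ(X, W)] Γ(M, W) :=
  Fintype.linearCombination Γ(X, W) (fun j => res M h (t j))

theorem combLin_apply {n : ℕ} {U : X.Opens} (t : Fin n → Γ(M, U)) {W : X.Opens} (h : W ≤ U)
    (c : Fin n → Γ(X, W)) : combLin t h c = H23.Frame.comb M t W h c :=
  Fintype.linearCombination_apply _ _ _

/-- A family generating a frame is a frame. -/
theorem isFrame_of_generates {n : ℕ} {U : X.Opens} {s t : Fin n → Γ(M, U)} (hs : H23.Frame.IsFrame M s)
    (a : Fin n → Fin n → Γ(X, U)) (ha : ∀ i, s i = ∑ j, a i j • t j) : H23.Frame.IsFrame M t := by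
  intro W h
  have hb : Function.Bijective (combLin s h) := by
    rw [show ⇑(combLin s h) = H23.Frame.comb M s W h from funext (combLin_apply s h)]
    exact hs W h
  have hsurj : Function.Surjective (combLin t h) := fun m => by
    obtain ⟨c, rfl⟩ := hb.2 m
    have hm : ∀ i, res M h (s i) ∈ LinearMap.range (combLin t h) := fun i => by
      rw [ha i, map_sum]
      refine Submodule.sum_mem _ fun j _ => ?_
      rw [res_smul]
      exact Submodule.smul_mem _ _ ⟨Pi.single j 1, by
        rw [combLin, Fintype.linearCombination_apply, Finset.sum_eq_single j]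
        · simp
        · intro l _ hl; simp [Pi.single_eq_of_ne hl]
        · simp⟩
    show combLin s h c ∈ LinearMap.range (combLin t h)
    rw [combLin_apply]
    exact Submodule.sum_mem (LinearMap.range (combLin t h)) fun i _ => Submodule.smul_mem _ _ (hm i)
  let e := LinearEquiv.ofBijective (combLin s h) hb
  have hinj : Function.Injective (e.symm.toLinearMap ∘ₗ combLin t h) :=
    OrzechProperty.injective_of_surjective_endomorphism _ (e.symm.surjective.comp hsurj)
  rw [show H23.Frame.comb M t W h = ⇑(combLin t h) from funext fun c => (combLin_apply t h c).symm]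
  exact ⟨fun x y hxy => hinj (by simp [hxy]), hsurj⟩

theorem comb_two {U : X.Opens} (a b : Γ(M, U)) {W : X.Opens} (h : W ≤ U) (c : Fin 2 → Γ(X, W)) :
    H23.Frame.comb M ![a, b] W h c = c 0 • res M h a + c 1 • res M h b := by
  rw [H23.Frame.comb, Fin.sum_univ_two]
  rfl

theorem exists_two {U : X.Opens} {a b : Γ(M, U)} (hs : H23.Frame.IsFrame M ![a, b]) {W : X.Opens} (h : W ≤ U)
    (m : Γ(M, W)) : ∃ x y : Γ(X, W), m = x • res M h a + y • res M h b := by
  obtain ⟨c, hc⟩ := (hs W h).2 m
  exact ⟨c 0, c 1, hc.symm.trans (comb_two a b h c)⟩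

variable {Wm : X.Modules}

/-- The wedge of a frame is a frame of the exterior square. -/
theorem isFrame_wedge {Ω : X.Modules}
    (φ : ∀ U : X.affineOpens, (Wm.val.obj (op U.1)) ≃ₗ[Γ(X, U.1)] ↥(⋀[Γ(X, U.1)]^2 (Ω.val.obj (op U.1))))
    (hφ : ∀ (U V : X.affineOpens) (h : V.1 ≤ U.1) (e : Fin 2 → Ω.val.obj (op U.1)),
      Wm.val.map (homOfLE h).op ((φ U).symm (exteriorPower.ιMulti _ 2 e)) =
        (φ V).symm (exteriorPower.ιMulti _ 2 (fun j => Ω.val.map (homOfLE h).op (e j))))
    {U : X.affineOpens} (a b : Γ(Ω, U.1)) (hs : H23.Frame.IsFrame Ω ![a, b]) :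
    InvX.IsFrame (M := Wm) (show Γ(Wm, U.1) from (φ U).symm (wedge a b)) := by
  refine isFrame_of_affine fun V hV => ?_
  have hres : res Wm hV (show Γ(Wm, U.1) from (φ U).symm (wedge a b)) =
      (φ V).symm (wedge (res Ω hV a) (res Ω hV b)) :=
    (hφ U V hV _).trans (congrArg _ (congrArg _ (by funext j; fin_cases j <;> rfl)))
  rw [hres]
  have hb : Function.Bijective (combLin ![a, b] hV) := by
    rw [show ⇑(combLin ![a, b] hV) = H23.Frame.comb Ω ![a, b] V.1 hV from funext (combLin_apply _ hV)]
    exact hs V.1 hV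
  let B : Module.Basis (Fin 2) Γ(X, V.1) Γ(Ω, V.1) :=
    (Pi.basisFun Γ(X, V.1) (Fin 2)).map (LinearEquiv.ofBijective (combLin ![a, b] hV) hb)
  have hB : ∀ j, B j = res Ω hV (![a, b] j) := fun j => by
    show combLin ![a, b] hV ((Pi.basisFun Γ(X, V.1) (Fin 2)) j) = _
    rw [combLin, Fintype.linearCombination_apply, Finset.sum_eq_single j]
    · simp
    · intro l _ hl; simp [Pi.single_eq_of_ne hl]
    · simp
  have h1 := bijective_smul_wedge B
  rw [hB 0, hB 1] at h1
  have h2 := ((φ V).symm.bijective).comp h1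
  have e : (fun c : Γ(X, V.1) => (show Γ(Wm, V.1) from c • (φ V).symm (wedge (res Ω hV a) (res Ω hV b)))) =
      (fun c : Γ(X, V.1) => (show Γ(Wm, V.1) from (φ V).symm (c • wedge (res Ω hV a) (res Ω hV b)))) :=
    funext fun c => ((φ V).symm.map_smul c _).symm
  exact (congrArg Function.Bijective e).mpr h2

end Groth.Agent.SurfInt.Adj
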