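import Groth.Agent.SurfInt.Adj.Iso
import Groth.Agent.SurfInt.Decomp
import Groth.Agent.SurfInt.Push
import Groth.Agent.SurfInt.Curves
import Groth.Agent.CurveCohLib.Nonspecial
import Groth.Agent.CurveBC.Main
import Groth.Agent.CurveCohLib.SmoothCurve
import Groth.Agent.NSVar98.OmegaReg

/-! Adjunction for a smooth curve on a surface. -/

noncomputable section

set_option linter.style.haveILetI false
set_option linter.unusedSectionVars false
set_option backward.isDefEq.respectTransparency false
set_option backward.isDefEq.respectTransparency.types false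

universe u

open CategoryTheory CategoryTheory.Limits AlgebraicGeometry TopologicalSpace Opposite

namespace Groth.Agent.SurfInt.Adj

open Groth.Agent

variable (k : Type u) [Field k] {X : Scheme.{u}} [X.Over (Spec (CommRingCat.of k))]
  [IsProper (X ↘ Spec (CommRingCat.of k))] [IsAlgClosed k] [IsIntegral X]
  (hdim : topologicalKrullDim X = 2) (hreg : ∀ x : X, IsRegularLocalRing (X.presheaf.stalk x))

include hdim hreg

theorem omega_rank_two :
    FlatMod.IsFinLocFreeOfRank 2 (Omega.sheaf (X ↘ Spec (CommRingCat.of k))) :=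
  (NSVar98.isFinLocFreeOfRank_iff_regular (n := 2) (X ↘ Spec (CommRingCat.of k)) hdim
    (OmegaUniv.isUniversal_dOmega _)).2 hreg

theorem isInvertible_canonical {W : X.Modules}
    (hW : ExtPow.IsExtPow 2 (Omega.sheaf (X ↘ Spec (CommRingCat.of k))) W) : PicF.IsInvertible W := by
  obtain ⟨φ, hφ⟩ := hW
  refine InvX.isInvertible_of_frames fun x => ?_
  obtain ⟨U, hxU, ⟨e⟩⟩ := omega_rank_two k hdim hreg x
  obtain ⟨s, hs⟩ := H23.Frame.exists_frame e
  obtain ⟨_, ⟨V, hV, rfl⟩, hxV, hVU⟩ :=
    X.isBasis_affineOpens.exists_subset_of_mem_open (show x ∈ (U : Set X) from hxU) U.isOpen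
  have hVU' : V ≤ U := hVU
  refine ⟨V, hxV, _, isFrame_wedge φ hφ (U := ⟨V, hV⟩) (AModX.res _ hVU' (s 0)) (AModX.res _ hVU' (s 1)) ?_⟩
  have e : (![AModX.res (Omega.sheaf (X ↘ Spec (CommRingCat.of k))) hVU' (s 0),
      AModX.res (Omega.sheaf (X ↘ Spec (CommRingCat.of k))) hVU' (s 1)]) =
      fun j => (Omega.sheaf (X ↘ Spec (CommRingCat.of k))).presheaf.map (homOfLE hVU').op (s j) := by
    funext j; fin_cases j <;> rfl
  rw [e]
  exact hs.res hVU'

omit hdim hreg in
theorem smooth_of_regular_closed {C : Scheme.{u}} (g : C ⟶ Spec (CommRingCat.of k)) [LocallyOfFiniteType g]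
    (h : ∀ c : C, IsClosed ({c} : Set C) → IsRegularLocalRing (C.presheaf.stalk c)) : Smooth g := by
  haveI := AlgStLib.locallyOfFinitePresentation_of_isLocallyNoetherian g
  refine Scheme.Hom.smoothLocus_eq_top_iff.1 ?_
  by_contra hne
  have hne' : ((g.smoothLocus : Set C)ᶜ).Nonempty := by
    rw [Set.nonempty_compl]
    exact fun e => hne (TopologicalSpace.Opens.coe_eq_univ.1 e)
  haveI : JacobsonSpace C := LocallyOfFiniteType.jacobsonSpace g
  obtain ⟨x, hx, hxc⟩ := nonempty_inter_closedPoints hne' g.smoothLocus.2.isClosed_compl.isLocallyClosed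
  exact hx ((SmoothReg.mem_smoothLocus_iff_isRegularLocalRing g x).2 (h x hxc))

/-- Adjunction: twice the genus minus two of a smooth curve. -/
theorem adjunction {W : X.Modules} (hW : ExtPow.IsExtPow 2 (Omega.sheaf (X ↘ Spec (CommRingCat.of k))) W)
    (C : Scheme.{u}) [hOver : C.Over (Spec (CommRingCat.of k))] (i : C ⟶ X) [IsClosedImmersion i] [IsIntegral C]
    (hi : i ≫ (X ↘ Spec (CommRingCat.of k)) = C ↘ Spec (CommRingCat.of k))
    (hC : topologicalKrullDim C = 1) (hCreg : ∀ c : C, IsClosed ({c} : Set C) → IsRegularLocalRing (C.presheaf.stalk c))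
    (hD : BlowUp.IsEffCartierIdeal i.ker) :
    2 * (Curv2.genus k C : ℤ) - 2 =
        dot k (ClSub.idealMod i.ker) (ClSub.idealMod i.ker) - dot k (ClSub.idealMod i.ker) W ∧
      2 * Curv2.euler k X (ClSub.idealMod i.ker) - dot k (ClSub.idealMod i.ker) (ClSub.idealMod i.ker) +
        dot k (ClSub.idealMod i.ker) W - 2 * Curv2.euler k X (Coh.structureModule X) = 0 := by
  obtain ⟨g⟩ := hOver
  change i ≫ (X ↘ Spec (CommRingCat.of k)) = g at hi
  subst hi
  letI : C.Over (Spec (CommRingCat.of k)) := ⟨i ≫ (X ↘ Spec (CommRingCat.of k))⟩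
  haveI : IsProper (C ↘ Spec (CommRingCat.of k)) := isProper_comp k i rfl
  haveI : Smooth (C ↘ Spec (CommRingCat.of k)) :=
    smooth_of_regular_closed k (C ↘ Spec (CommRingCat.of k)) hCreg
  haveI := noeth k (X := C)
  haveI := noeth k (X := X)
  have h0 : Module.finrank k (Coh.HH C (Coh.structureModule C) 0) = 1 := CurveCohLib.finrank_h0_eq_one k C
  have hΩC : PicF.IsInvertible (Omega.sheaf (i ≫ (X ↘ Spec (CommRingCat.of k)))) :=
    CurveBC.isInvertible_omega k C hC h0
  obtain ⟨-, hdeg⟩ := CurveBC.canonical_invariants k C hC h0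
  have hIi : PicF.IsInvertible (ClSub.idealMod i.ker) := (S8914.result _).2 hD
  have hWi := isInvertible_canonical k hdim hreg hW
  obtain ⟨e⟩ := nonempty_adjunction_iso i (X ↘ Spec (CommRingCat.of k)) hD (omega_rank_two k hdim hreg) hΩC hW
  have hP := PicClLib.isInvertible_pullback i hIi
  have hdegOn : ∀ M : C.Modules, Curv2.deg k C M 1 = degOn k (Coh.structureModule C) M := fun M => by
    rw [degOn, euler_comm k (Coh.structureModule C) M, euler_tensor_structure, Curv2.deg]
    simp
  have hadd : Curv2.deg k C ((Scheme.Modules.pullback i).obj W) 1 =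
      Curv2.deg k C ((Scheme.Modules.pullback i).obj (ClSub.idealMod i.ker)) 1 +
        (2 * (Curv2.genus k C : ℤ) - 2) := by
    rw [hdegOn, degOn_congr k e, degOn_tensor k isCoh_structureModule (dim_support_le (d := 1) hC.le _) hP hΩC,
      ← hdegOn, ← hdegOn]
    exact congrArg _ hdeg
  have h1 := dot_ideal_left k hdim.le i.ker hIi hIi
  have h2 := dot_ideal_left k hdim.le i.ker hIi hWi
  rw [degOn_quot_ker k i rfl hIi] at h1
  rw [degOn_quot_ker k i rfl hWi] at h2
  have hq := euler_quotMod k i.ker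
  rw [CurveCohLib.euler_congr (k := k) (nonempty_quotMod_iso i).some, euler_push_structure k i rfl] at hq
  have hg := CurveCohLib.Nonspecial.euler_structure k (X := C) hC h0
  constructor
  · omega
  · omega

end Groth.Agent.SurfInt.Adj
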