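import Groth.Agent.SurfInt.Adj.Alg
import Groth.Agent.OmegaUniv.Universal
import Groth.Agent.ArSurfX.IdealFrame
import Groth.Agent.Synt29.OmegaStalk
import Mathlib.RingTheory.Nakayama
import Mathlib.AlgebraicGeometry.Morphisms.ClosedImmersion
import Groth.Prelude.Def_Omega4

/-! Differentials of a curve in a surface: frames adapted to the curve. -/

noncomputable section

set_option linter.style.haveILetI false
set_option linter.unusedSectionVars false
set_option backward.isDefEq.respectTransparency false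
set_option backward.isDefEq.respectTransparency.types false

universe u

open CategoryTheory CategoryTheory.Limits AlgebraicGeometry TopologicalSpace Opposite

namespace Groth.Agent.SurfInt.Adj

open Groth.Agent Groth.Agent.AModX Groth.Agent.Synt29.OmegaStalk

variable {C X S : Scheme.{u}} (i : C ⟶ X) (f : X ⟶ S)

/-- A derivation downstairs from a derivation on the source. -/
def pushDer {F : C.Modules} (D : OmegaSh.Der (i ≫ f) F) :
    OmegaSh.Der f ((Scheme.Modules.pushforward i).obj F) where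
  d {U} := AddMonoidHom.mk' (fun s => D.app (i ⁻¹ᵁ U.unop) (i.app U.unop s))
    fun s t => by rw [map_add, map_add]
  d_mul {U} a b := by
    show D.app (i ⁻¹ᵁ U.unop) (i.app U.unop (a * b)) = _
    rw [map_mul, app_mul]
    rfl
  d_map {U V} j s := by
    show D.app (i ⁻¹ᵁ V.unop) (i.app V.unop (X.presheaf.map j s)) = _
    have h := ConcreteCategory.congr_hom (i.naturality j) s
    simp only [ConcreteCategory.comp_apply] at h
    rw [h]
    exact app_res F D ((Opens.map i.base).map j.unop) _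
  d_app {V} c := by
    show D.app (i ⁻¹ᵁ (f ⁻¹ᵁ V.unop)) (i.app (f ⁻¹ᵁ V.unop) (f.app V.unop c)) = 0
    exact app_base F D V.unop c

variable [QuasiSeparated f] [QuasiSeparated (i ≫ f)]

/-- The map from differentials downstairs to differentials of the source. -/
def restrDiff : Omega.sheaf f ⟶ (Scheme.Modules.pushforward i).obj (Omega.sheaf (i ≫ f)) :=
  (OmegaUniv.isUniversal_dOmega f _ (pushDer i f (OmegaSh.dOmega (i ≫ f)))).choose

/-- The differential on `X`. -/
abbrev dX (U : X.Opens) : Γ(X, U) →+ Γ(Omega.sheaf f, U) := (OmegaSh.dOmega f).app U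

/-- The differential on the source. -/
abbrev dC (U : C.Opens) : Γ(C, U) →+ Γ(Omega.sheaf (i ≫ f), U) := (OmegaSh.dOmega (i ≫ f)).app U

theorem restrDiff_d (U : X.Opens) (s : Γ(X, U)) :
    (show Γ(Omega.sheaf (i ≫ f), i ⁻¹ᵁ U) from (restrDiff i f).app U (dX f U s)) =
      dC i f (i ⁻¹ᵁ U) (i.app U s) :=
  PresheafOfModules.Derivation.congr_d
    (OmegaUniv.isUniversal_dOmega f _ (pushDer i f (OmegaSh.dOmega (i ≫ f)))).choose_spec.1 s

/-- The restriction of differentials on sections. -/
def restrSect (U : X.Opens) (m : Γ(Omega.sheaf f, U)) : Γ(Omega.sheaf (i ≫ f), i ⁻¹ᵁ U) :=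
  (restrDiff i f).app U m

theorem restrSect_d (U : X.Opens) (s : Γ(X, U)) :
    restrSect i f U (dX f U s) = dC i f (i ⁻¹ᵁ U) (i.app U s) := restrDiff_d i f U s

theorem restrSect_comb (U : X.Opens) (a b : Γ(X, U)) (m n : Γ(Omega.sheaf f, U)) :
    restrSect i f U (a • m + b • n) = i.app U a • restrSect i f U m + i.app U b • restrSect i f U n := by
  show (restrDiff i f).app U _ = _
  rw [map_add, Scheme.Modules.Hom.app_smul, Scheme.Modules.Hom.app_smul]
  rfl

theorem restrSect_res {U V : X.Opens} (h : V ≤ U) (m : Γ(Omega.sheaf f, U)) :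
    restrSect i f V (res (Omega.sheaf f) h m) =
      res (Omega.sheaf (i ≫ f)) (i.preimage_mono h) (restrSect i f U m) :=
  AModX.app_res (restrDiff i f) h m

theorem app_resR {U V : X.Opens} (h : V ≤ U) (a : Γ(X, U)) :
    i.app V (resR h a) = resR (i.preimage_mono h) (i.app U a) := by
  have h' := ConcreteCategory.congr_hom (i.naturality (homOfLE h).op) a
  exact h'

theorem exists_d_generator (x : C) {O : C.Opens} (hxO : x ∈ O) (e : Γ(Omega.sheaf (i ≫ f), O))
    (he : InvX.IsFrame e) :
    ∃ (b : C.presheaf.stalk x) (r : C.presheaf.stalk x), IsUnit r ∧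
      (stalkD (OmegaSh.dOmega (i ≫ f)) x).d b = r • gm _ hxO e := by
  by_contra hne
  push Not at hne
  have hb := he.germ_bijective hxO
  let St' := St (Omega.sheaf (i ≫ f)) x
  let R := C.presheaf.stalk x
  let L : (R : Type u) →ₗ[R] (St' : Type u) := LinearMap.toSpanSingleton R St' (gm _ hxO e)
  let E : (R : Type u) ≃ₗ[R] (St' : Type u) := LinearEquiv.ofBijective L hb
  let q : (St' : Type u) →ₗ[R] ((R : Type u) ⧸ IsLocalRing.maximalIdeal R) :=
    (Submodule.mkQ _).comp E.symm.toLinearMap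
  have hq : ∀ b, q ((stalkD (OmegaSh.dOmega (i ≫ f)) x).d b) = 0 := fun b => by
    obtain ⟨r, hr⟩ := hb.2 ((stalkD (OmegaSh.dOmega (i ≫ f)) x).d b)
    have hnu : r ∈ IsLocalRing.maximalIdeal R := fun hu => hne b r hu hr.symm
    have hE : E.symm ((stalkD (OmegaSh.dOmega (i ≫ f)) x).d b) = r := by
      rw [LinearEquiv.symm_apply_eq]; exact hr.symm
    show Submodule.mkQ _ (E.symm _) = 0
    rw [hE]
    exact (Submodule.Quotient.mk_eq_zero _).2 hnu
  have h0 := stalk_hom_ext (OmegaUniv.isUniversal_dOmega (i ≫ f)) (x := x)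
    (φ := ModuleCat.ofHom q) (ψ := 0) hq
  have h1 : q (gm _ hxO e) = 0 := congrArg (fun (l : St' ⟶ _) => l (gm _ hxO e)) h0
  have h2 : E.symm (gm _ hxO e) = 1 := by
    rw [LinearEquiv.symm_apply_eq]; exact (one_smul R (gm _ hxO e)).symm
  have h3 : (1 : R) ∈ IsLocalRing.maximalIdeal R := by
    refine (Submodule.Quotient.mk_eq_zero _).1 ?_
    rw [← h2]
    exact h1
  exact (IsLocalRing.maximalIdeal.isMaximal R).ne_top ((Ideal.eq_top_iff_one _).2 h3)

theorem gm_resM {M : X.Modules} {U V : X.Opens} (h : V ≤ U) {y : X} (hy : y ∈ V) (t : Γ(M, U)) :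
    gm M hy (res M h t) = gm M (h hy) t := gm_res M (homOfLE h) hy t

theorem span_gm_frame {Ω : X.Modules} {n : ℕ} {U : X.Opens} {s : Fin n → Γ(Ω, U)}
    (hs : H23.Frame.IsFrame Ω s) {y : X} (hy : y ∈ U) :
    Submodule.span (X.presheaf.stalk y) (Set.range fun j => gm Ω hy (s j)) = ⊤ := by
  refine top_le_iff.1 fun m _ => ?_
  obtain ⟨W, hW, t, rfl⟩ := gm_surjective Ω m
  obtain ⟨c, hc⟩ := (hs (W ⊓ U) inf_le_right).2 (res Ω inf_le_left t)
  have h1 := congrArg (gm Ω (show y ∈ W ⊓ U from ⟨hW, hy⟩)) hc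
  rw [H23.Frame.comb, map_sum] at h1
  rw [show gm Ω hW t = gm Ω (show y ∈ W ⊓ U from ⟨hW, hy⟩) (res Ω inf_le_left t) from
    (gm_resM (inf_le_left : W ⊓ U ≤ W) ⟨hW, hy⟩ t).symm, ← h1]
  refine Submodule.sum_mem _ fun j _ => ?_
  rw [gm_smul]
  refine Submodule.smul_mem _ _ (Submodule.subset_span ⟨j, ?_⟩)
  exact (gm_resM (inf_le_right : W ⊓ U ≤ U) ⟨hW, hy⟩ (s j)).symm

variable [IsClosedImmersion i]

/-- The differentials of an equation of the closed subscheme and of a lift of a generator generate. -/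
theorem span_dX_eq_top (x : C) (a g : X.presheaf.stalk (i x))
    (hker : RingHom.ker (i.stalkMap x).hom = Ideal.span {a})
    (hfin : Module.Finite (X.presheaf.stalk (i x)) (St (Omega.sheaf f) (i x)))
    (hgen : Submodule.span (C.presheaf.stalk x)
      {(stalkD (OmegaSh.dOmega (i ≫ f)) x).d (i.stalkMap x g)} = ⊤) :
    Submodule.span (X.presheaf.stalk (i x))
      {(stalkD (OmegaSh.dOmega f) (i x)).d a, (stalkD (OmegaSh.dOmega f) (i x)).d g} = ⊤ := by
  let R := X.presheaf.stalk (i x)
  let S' := C.presheaf.stalk x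
  let m := IsLocalRing.maximalIdeal R
  let D := stalkD (OmegaSh.dOmega f) (i x)
  let N : Submodule R (St (Omega.sheaf f) (i x)) := Submodule.span R {D.d a, D.d g}
  let P : Submodule R (St (Omega.sheaf f) (i x)) := N ⊔ m • ⊤
  let π : R →+* S' := (i.stalkMap x).hom
  have hπ : Function.Surjective π := i.stalkMap_surjective x
  let V := (St (Omega.sheaf f) (i x) : Type u) ⧸ P
  have hkill : ∀ r ∈ m, ∀ v : V, r • v = 0 := fun r hr v => by
    obtain ⟨v, rfl⟩ := Submodule.Quotient.mk_surjective _ v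
    rw [← Submodule.Quotient.mk_smul, Submodule.Quotient.mk_eq_zero]
    exact Submodule.mem_sup_right (Submodule.smul_mem_smul hr Submodule.mem_top)
  have hkm : RingHom.ker π ≤ m := IsLocalRing.le_maximalIdeal (RingHom.ker_ne_top π)
  letI : SMul S' V := ⟨fun s v => Function.surjInv hπ s • v⟩
  have hsm : ∀ (r : R) (v : V), π r • v = r • v := fun r v => by
    show Function.surjInv hπ (π r) • v = r • v
    rw [← sub_eq_zero, ← sub_smul]
    exact hkill _ (hkm (by rw [RingHom.mem_ker, map_sub, Function.surjInv_eq hπ, sub_self])) v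
  letI : Module S' V := Function.Surjective.moduleLeft π hπ hsm
  let δ : R → V := fun r => Submodule.Quotient.mk (D.d r)
  have hδadd : ∀ r r', δ (r + r') = δ r + δ r' := fun r r' => by
    show Submodule.Quotient.mk _ = _
    rw [D.d_add, Submodule.Quotient.mk_add]
  have hδmul : ∀ r r', δ (r * r') = π r • δ r' + π r' • δ r := fun r r' => by
    show Submodule.Quotient.mk _ = _
    rw [D.d_mul, Submodule.Quotient.mk_add, Submodule.Quotient.mk_smul, Submodule.Quotient.mk_smul,
      hsm, hsm]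
  have hδa : δ a = 0 := (Submodule.Quotient.mk_eq_zero _).2
    (Submodule.mem_sup_left (Submodule.subset_span (Set.mem_insert _ _)))
  have hπa : π a = 0 := RingHom.mem_ker.1 (hker ▸ Ideal.mem_span_singleton_self a)
  have hδker : ∀ r, π r = 0 → δ r = 0 := fun r hr => by
    obtain ⟨c, rfl⟩ := Ideal.mem_span_singleton'.1 (hker ▸ RingHom.mem_ker.2 hr : r ∈ Ideal.span {a})
    rw [hδmul, hδa, hπa, smul_zero, zero_smul, add_zero]
  let δ' : S' → V := fun s => δ (Function.surjInv hπ s)
  have hδ' : ∀ r, δ' (π r) = δ r := fun r => by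
    have h := hδker (Function.surjInv hπ (π r) - r) (by rw [map_sub, Function.surjInv_eq hπ, sub_self])
    have h2 := hδadd (Function.surjInv hπ (π r) - r) r
    rw [sub_add_cancel, h, zero_add] at h2
    exact h2
  let DC : (ModuleCat.of S' V).Derivation ((i ≫ f).stalkMap x) :=
    ModuleCat.Derivation.mk δ'
      (fun p q => by
        obtain ⟨p, rfl⟩ := hπ p; obtain ⟨q, rfl⟩ := hπ q
        rw [← map_add, hδ', hδ', hδ', hδadd])
      (fun p q => by
        obtain ⟨p, rfl⟩ := hπ p; obtain ⟨q, rfl⟩ := hπ q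
        rw [← map_mul, hδ', hδ', hδ', hδmul])
      (fun c => by
        rw [Scheme.Hom.stalkMap_comp]
        show δ' (π (f.stalkMap (i x) c)) = 0
        rw [hδ']
        show Submodule.Quotient.mk _ = 0
        rw [D.d_map, Submodule.Quotient.mk_zero])
  obtain ⟨ψ, hψ⟩ := exists_stalk_desc (OmegaUniv.isUniversal_dOmega (i ≫ f)) x DC
  have hψ0 : ∀ m', ψ m' = 0 := fun m' => by
    obtain ⟨c, rfl⟩ := Submodule.mem_span_singleton.1 (hgen ▸ Submodule.mem_top (x := m'))
    rw [map_smul, hψ]
    show c • δ' (π g) = 0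
    rw [hδ', show δ g = 0 from (Submodule.Quotient.mk_eq_zero _).2
      (Submodule.mem_sup_left (Submodule.subset_span (Set.mem_insert_of_mem _ rfl))), smul_zero]
  have hδ0 : ∀ r, Submodule.Quotient.mk (p := P) (D.d r) = 0 := fun r => by
    have h := hψ0 ((stalkD (OmegaSh.dOmega (i ≫ f)) x).d (π r))
    rw [hψ] at h
    exact (hδ' r).symm.trans h
  have hq := stalk_hom_ext (OmegaUniv.isUniversal_dOmega f) (x := i x)
    (φ := ModuleCat.ofHom P.mkQ) (ψ := 0) hδ0
  have hP : (⊤ : Submodule R (St (Omega.sheaf f) (i x))) ≤ N ⊔ m • ⊤ := fun v _ =>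
    (Submodule.Quotient.mk_eq_zero P).1 (congrArg (fun (l : St (Omega.sheaf f) (i x) ⟶ _) => l v) hq)
  exact top_le_iff.1 (Submodule.le_of_le_smul_of_le_jacobson_bot Module.Finite.fg_top
    (IsLocalRing.maximalIdeal_le_jacobson _) hP)

end Groth.Agent.SurfInt.Adj
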