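import Groth.Agent.S10921
import Groth.Agent.Lib.AmpleEmbed
import Groth.Agent.SurfInt.AffSect
import Groth.Agent.SurfInt.Divisor
import Groth.Agent.DeformNL.HBSpread
import Groth.Agent.ArSurfX.IdealFrame

/-! Smooth divisors in the class of a positive power of an ample module. -/

noncomputable section

set_option linter.style.haveILetI false
set_option linter.unusedSectionVars false
set_option backward.isDefEq.respectTransparency false
set_option backward.isDefEq.respectTransparency.types false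

universe u

open CategoryTheory CategoryTheory.Limits AlgebraicGeometry TopologicalSpace Opposite
open HomogeneousLocalization (Away)

namespace Groth.Agent.SurfInt.Adj

open Groth.Agent

variable {X : Scheme.{u}}

/-- Regularity of an effective divisor at its closed points, read on equations. -/
def SmoothDiv (D : X.IdealSheafData) : Prop :=
  ∀ (x : X) (U : X.affineOpens) (hx : x ∈ U.1) (a : Γ(X, U.1)), IsClosed ({x} : Set X) →
    x ∈ (D.support : Set X) → ArSurfX.IsGen D U a →
      IsRegularLocalRing (X.presheaf.stalk x ⧸ Ideal.span {X.presheaf.germ U.1 x hx a})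

theorem span_germ_eq {D : X.IdealSheafData} {U V : X.affineOpens} {a : Γ(X, U.1)} {b : Γ(X, V.1)}
    (ha : D.ideal U = Ideal.span {a}) (hb : D.ideal V = Ideal.span {b}) {x : X} (hxU : x ∈ U.1) (hxV : x ∈ V.1) :
    Ideal.span {X.presheaf.germ U.1 x hxU a} = Ideal.span {X.presheaf.germ V.1 x hxV b} := by
  obtain ⟨_, ⟨W, hW, rfl⟩, hxW, hle⟩ :=
    X.isBasis_affineOpens.exists_subset_of_mem_open (show x ∈ (U.1 ⊓ V.1 : X.Opens) from ⟨hxU, hxV⟩) (U.1 ⊓ V.1).isOpen
  have hWU : W ≤ U.1 := fun z hz => (hle hz).1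
  have hWV : W ≤ V.1 := fun z hz => (hle hz).2
  have h1 := D.map_ideal (U := ⟨W, hW⟩) (V := U) hWU
  have h2 := D.map_ideal (U := ⟨W, hW⟩) (V := V) hWV
  rw [ha, Ideal.map_span, Set.image_singleton] at h1
  rw [hb, Ideal.map_span, Set.image_singleton] at h2
  have h3 := congrArg (Ideal.map (X.presheaf.germ W x hxW).hom) (h1.trans h2.symm)
  simp only [Ideal.map_span, Set.image_singleton] at h3
  rw [← InvX.germ_resR' hWU hxW a, ← InvX.germ_resR' hWV hxW b]
  exact h3

open AModX in
theorem exists_smoothDiv {k : Type u} [Field k] [IsAlgClosed k] [IsIntegral X]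
    (hreg : ∀ x : X, IsRegularLocalRing (X.presheaf.stalk x))
    (f : X ⟶ Spec (CommRingCat.of k)) [IsProper f] {A : X.Modules} (hA : CohB1.IsAmple A) :
    ∃ (D : X.IdealSheafData) (m : ℕ), 0 < m ∧ BlowUp.IsEffCartierIdeal D ∧ SmoothDiv D ∧
      ClSub.IsInverseOf (CohB1.tensorPow A m) (ClSub.idealMod D) := by
  obtain ⟨n, ι, hι, -, he | ⟨m, hm, ⟨τ⟩⟩⟩ := AmpleEmbed.exists_closedImmersion_pow f hA
  · exact (he.false (genericPoint X)).elim
  haveI := hι
  obtain ⟨g, hg0, hg⟩ := S10921.result k n X ι hreg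
  haveI : Infinite k := IsAlgClosed.instInfinite
  obtain ⟨c, hc⟩ : ∃ c : Fin (n + 1) → k, MvPolynomial.eval c g ≠ 0 := by
    by_contra h
    push Not at h
    exact hg0 (MvPolynomial.funext fun c => by rw [h c, map_zero])
  let hpoly : MvPolynomial (Fin (n + 1)) k := ∑ l, MvPolynomial.C (c l) * MvPolynomial.X l
  have hh1 : hpoly ∈ CohB1.polyGrading n k 1 :=
    Submodule.sum_mem _ fun l _ => (MvPolynomial.isHomogeneous_X k l).C_mul (c l)
  have hcoef : (fun i => MvPolynomial.coeff (Finsupp.single i 1) hpoly) = c := funext fun i => by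
    classical
    simp only [hpoly, MvPolynomial.coeff_sum, MvPolynomial.coeff_C_mul, MvPolynomial.coeff_X']
    rw [Finset.sum_eq_single i (fun l _ hl => by simp [Finsupp.single_eq_single_iff, hl]) (by simp)]
    simp
  obtain ⟨⟨x₀, hx₀⟩, hgood⟩ := hg ⟨hpoly, hh1⟩ (by rw [hcoef]; exact hc)
  let L := (Scheme.Modules.pullback ι).obj (Twist.twistProjSpace n k 1)
  have hL : PicF.IsInvertible L :=
    H23.PicMul.isInvertible_of_iso τ.symm (InvX.isInvertible_tensorPow hA.1 m)
  let t : Γ(L, ⊤) := ProjUPX.pullG ι hh1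
  have hT : ∀ j : Fin (n + 1), (MvPolynomial.X j : MvPolynomial (Fin (n + 1)) k) ∈ CohB1.polyGrading n k 1 :=
    fun j => ProjPt.X_mem j
  have hloc : ∀ (x : X) (j : Fin (n + 1)),
      (MvPolynomial.X j : MvPolynomial (Fin (n + 1)) k) ∉ (ι.base x).asHomogeneousIdeal →
      ∃ (V : X.affineOpens) (hxV : x ∈ V.1) (fr : Γ(L, V.1)) (a : Γ(X, V.1)) (hj : _),
        InvX.IsFrame fr ∧ res L (le_top : V.1 ≤ ⊤) t = a • fr ∧
        X.presheaf.germ V.1 x hxV a = (ι.stalkMap x).hom ((Proj.stalkIso' (CohB1.polyGrading n k) (ι.base x)).symm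
            (HomogeneousLocalization.mk
              ⟨1, ⟨hpoly, hh1⟩, ⟨MvPolynomial.X j, MvPolynomial.isHomogeneous_X k j⟩, hj⟩)) := by
    intro x j hj
    let U := Proj.basicOpen (CohB1.polyGrading n k) (MvPolynomial.X j)
    obtain ⟨_, ⟨V, hV, rfl⟩, hxV, hle⟩ := X.isBasis_affineOpens.exists_subset_of_mem_open
      (show x ∈ (ι ⁻¹ᵁ U : X.Opens) from hj) (ι ⁻¹ᵁ U).isOpen
    have hle' : V ≤ ι ⁻¹ᵁ U := hle
    refine ⟨⟨V, hV⟩, hxV, res L (le_top : V ≤ ⊤) (ProjUPX.pullG ι (hT j)), ProjUPX.ratioOf ι hh1 (hT j) hle', hj,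
      ?_, ProjUPX.res_pullG ι hh1 (hT j) hle', ?_⟩
    · have h := (ProjUPX.isFrame_pullG ι (hT j)).res hle'
      rwa [res_res] at h
    · let z : Away (CohB1.polyGrading n k) (MvPolynomial.X j) :=
        Away.mk (CohB1.polyGrading n k) (hT j) 1 hpoly (by rw [one_smul]; exact hh1)
      have h1 : (CohB1.ProjSpace n k).presheaf.germ U (ι.base x) hj
          ((Proj.awayToSection (CohB1.polyGrading n k) (MvPolynomial.X j)).hom z) =
            (Proj.stalkIso' (CohB1.polyGrading n k) (ι.base x)).symm (HomogeneousLocalization.mk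
              ⟨1, ⟨hpoly, hh1⟩, ⟨MvPolynomial.X j, MvPolynomial.isHomogeneous_X k j⟩, hj⟩) := by
        rw [show z = HomogeneousLocalization.mk (x := Submonoid.powers (MvPolynomial.X j)) ⟨1, ⟨hpoly, hh1⟩,
            ⟨MvPolynomial.X j, MvPolynomial.isHomogeneous_X k j⟩, ⟨1, pow_one _⟩⟩ from
          HomogeneousLocalization.val_injective _ (by simp [z])]
        refine (congr($(ProjectiveSpectrum.Proj.awayToSection_germ (CohB1.polyGrading n k)
          (MvPolynomial.X j) (ι.base x) hj) _)).trans ?_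
        rfl
      rw [← h1]
      refine Eq.trans ?_ (Scheme.Hom.germ_stalkMap_apply ι U x hj _).symm
      exact X.presheaf.germ_res_apply (homOfLE hle') x hxV _
  have hunit : ∀ (x : X) (j : Fin (n + 1))
      (hj : (MvPolynomial.X j : MvPolynomial (Fin (n + 1)) k) ∉ (ι.base x).asHomogeneousIdeal),
      hpoly ∉ (ι.base x).asHomogeneousIdeal →
      IsUnit ((ι.stalkMap x).hom ((Proj.stalkIso' (CohB1.polyGrading n k) (ι.base x)).symm
            (HomogeneousLocalization.mk
              ⟨1, ⟨hpoly, hh1⟩, ⟨MvPolynomial.X j, MvPolynomial.isHomogeneous_X k j⟩, hj⟩))) := by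
    intro x j hj hnot
    refine (((HomogeneousLocalization.isUnit_iff_isUnit_val (CohB1.polyGrading n k) (ι.base x).asHomogeneousIdeal.toIdeal _).1 ?_).map _).map _
    rw [HomogeneousLocalization.val_mk, Localization.mk_eq_mk', IsLocalization.AtPrime.isUnit_mk'_iff _
      (ι.base x).asHomogeneousIdeal.toIdeal]
    exact hnot
  have hs : InvX.ofSect t ≠ 0 := by
    intro h0
    obtain ⟨j, hj⟩ := ProjUPX.cov_X (n := n) (R := k) (ι.base x₀)
    obtain ⟨V, hxV, fr, a, hj', hfr, hta, hgerm⟩ := hloc x₀ j hj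
    have ht : t = 0 := by
      rw [← InvX.one_ofSect t, h0]; rfl
    rw [ht, map_zero] at hta
    have ha : a = 0 := hfr.coord_unique le_rfl (by rw [res_self, zero_smul]; exact hta.symm)
    have hu := hunit x₀ j hj' hx₀
    rw [← hgerm, ha, map_zero] at hu
    exact not_isUnit_zero hu
  obtain ⟨hD, hinv⟩ := isInverseOf_zeroScheme hL (InvX.ofSect t) hs
  refine ⟨_, m, hm, hD, ?_, ?_⟩
  · intro x U hxU b hxc hxs hgen
    obtain ⟨j, hj⟩ := ProjUPX.cov_X (n := n) (R := k) (ι.base x)
    obtain ⟨V, hxV, fr, a, hj', hfr, hta, hgerm⟩ := hloc x j hj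
    have hid := ideal_zeroScheme_of_frame hL t hfr hta
    rw [span_germ_eq hgen.2 hid hxU hxV, hgerm]
    refine hgood x hxc (by_contra fun hnot => ?_) j hj'
    have hu := hunit x j hj' hnot
    rw [← hgerm] at hu
    have h2 := (Scheme.IdealSheafData.mem_support_iff_of_mem hxV).1 hxs
    rw [hid, Scheme.zeroLocus_span, Scheme.mem_zeroLocus_iff] at h2
    exact h2 a rfl ((X.mem_basicOpen a x hxV).2 hu)
  · obtain ⟨e⟩ := hinv
    exact ⟨PicGrp.tensorModIso τ.symm (Iso.refl _) ≪≫ e⟩

end Groth.Agent.SurfInt.Adj
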