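import Groth.Agent.SurfInt.Adj.Derive
import Groth.Agent.DeformNL.HBSpread
import Groth.Agent.InvX.Pullback
import Groth.Agent.CurveCohLib.SectionEqns
import Groth.Prelude.Def_FlatMod2

/-! The adjunction isomorphism of a curve in a surface. -/

noncomputable section

set_option linter.style.haveILetI false
set_option linter.unusedSectionVars false
set_option backward.isDefEq.respectTransparency false
set_option backward.isDefEq.respectTransparency.types false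

universe u

open CategoryTheory CategoryTheory.Limits AlgebraicGeometry TopologicalSpace Opposite

namespace Groth.Agent.SurfInt.Adj

open Groth.Agent Groth.Agent.AModX Groth.Agent.Synt29.OmegaStalk

variable {C X S : Scheme.{u}} (i : C ⟶ X) (f : X ⟶ S) [QuasiSeparated f] [QuasiSeparated (i ≫ f)]
  [IsClosedImmersion i]

/-- A generator of the ideal and a function whose differentials form a frame, adapted to the curve. -/
structure Chart (x : C) where
  V : X.affineOpens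
  a : Γ(X, V.1)
  g : Γ(X, V.1)
  O : C.Opens
  hOV : O ≤ i ⁻¹ᵁ V.1
  mem : x ∈ O
  isGen : ArSurfX.IsGen i.ker V a
  frame : H23.Frame.IsFrame (Omega.sheaf f) ![dX f V.1 a, dX f V.1 g]
  frameC : InvX.IsFrame (res (Omega.sheaf (i ≫ f)) hOV (dC i f (i ⁻¹ᵁ V.1) (i.app V.1 g)))

theorem nonempty_chart (hD : BlowUp.IsEffCartierIdeal i.ker)
    (hΩ : FlatMod.IsFinLocFreeOfRank 2 (Omega.sheaf f)) (hΩC : PicF.IsInvertible (Omega.sheaf (i ≫ f)))
    (x : C) : Nonempty (Chart i f x) := by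
  obtain ⟨U₁, hxU₁, a₁, ha₁⟩ := ArSurfX.exists_isGen hD (i x)
  obtain ⟨U₂, hxU₂, ⟨e₂⟩⟩ := hΩ (i x)
  obtain ⟨s, hs⟩ := H23.Frame.exists_frame e₂
  obtain ⟨O₁, hxO₁, e, he⟩ := InvX.exists_frame hΩC x
  obtain ⟨b, r, hr, hbr⟩ := exists_d_generator i f x hxO₁ e he
  obtain ⟨g₀, rfl⟩ := i.stalkMap_surjective x b
  obtain ⟨U₃, hxU₃, g₁, rfl⟩ := X.presheaf.exists_germ_eq (x := i x) g₀
  obtain ⟨O₂, hxO₂, r₁, rfl⟩ := C.presheaf.exists_germ_eq (x := x) r
  have hker : RingHom.ker (i.stalkMap x).hom = Ideal.span {X.presheaf.germ U₁.1 _ hxU₁ a₁} := by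
    rw [DeformNL.HBSpread.ker_stalkMap i U₁ x hxU₁, ha₁.2, Ideal.map_span, Set.image_singleton]
  have hfin : Module.Finite (X.presheaf.stalk (i x)) (St (Omega.sheaf f) (i x)) :=
    ⟨span_gm_frame hs hxU₂ ▸ Submodule.fg_span (Set.finite_range _)⟩
  have hgen : Submodule.span (C.presheaf.stalk x)
      {(stalkD (OmegaSh.dOmega (i ≫ f)) x).d (i.stalkMap x (X.presheaf.germ U₃ (i x) hxU₃ g₁))} = ⊤ := by
    rw [hbr, Submodule.span_singleton_smul_eq hr]
    refine top_le_iff.1 fun m _ => ?_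
    obtain ⟨c, hc⟩ := (he.germ_bijective hxO₁).2 m
    exact Submodule.mem_span_singleton.2 ⟨c, hc⟩
  have hspan := span_dX_eq_top i f x _ _ hker hfin hgen
  have hco : ∀ j, ∃ u w : X.presheaf.stalk (i x), gm (Omega.sheaf f) hxU₂ (s j) =
      u • (stalkD (OmegaSh.dOmega f) (i x)).d (X.presheaf.germ U₁.1 _ hxU₁ a₁) +
        w • (stalkD (OmegaSh.dOmega f) (i x)).d (X.presheaf.germ U₃ (i x) hxU₃ g₁) := fun j => by
    obtain ⟨u, w, h⟩ := Submodule.mem_span_pair.1 (hspan ▸ Submodule.mem_top : gm (Omega.sheaf f) hxU₂ (s j) ∈ _)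
    exact ⟨u, w, h.symm⟩
  choose u w huw using hco
  have hW : ∀ j, ∃ (W : X.Opens) (_ : i x ∈ W) (h₁ : W ≤ U₁.1) (h₂ : W ≤ U₂) (h₃ : W ≤ U₃) (p q : Γ(X, W)),
      res (Omega.sheaf f) h₂ (s j) = p • dX f W (resR h₁ a₁) + q • dX f W (resR h₃ g₁) := fun j => by
    obtain ⟨U₄, hx₄, p, q, hp, hq⟩ := exists_germ_pair (i x) (u j) (w j)
    let W := U₁.1 ⊓ U₂ ⊓ U₃ ⊓ U₄
    have h₁ : W ≤ U₁.1 := fun z hz => hz.1.1.1
    have h₂ : W ≤ U₂ := fun z hz => hz.1.1.2
    have h₃ : W ≤ U₃ := fun z hz => hz.1.2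
    have h₄ : W ≤ U₄ := fun z hz => hz.2
    have hxW : i x ∈ W := ⟨⟨⟨hxU₁, hxU₂⟩, hxU₃⟩, hx₄⟩
    have heq : (Omega.sheaf f).presheaf.germ W (i x) hxW (res (Omega.sheaf f) h₂ (s j)) =
        (Omega.sheaf f).presheaf.germ W (i x) hxW
          (resR h₄ p • dX f W (resR h₁ a₁) + resR h₄ q • dX f W (resR h₃ g₁)) := by
      show gm (Omega.sheaf f) hxW _ = gm (Omega.sheaf f) hxW _
      rw [map_add, gm_smul, gm_smul, ← stalkD_germ, ← stalkD_germ, InvX.germ_resR', InvX.germ_resR',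
        InvX.germ_resR', InvX.germ_resR', gm_resM h₂ hxW, hp, hq]
      exact huw j
    obtain ⟨W', hxW', i₁, i₂, h⟩ :=
      TopCat.Presheaf.germ_eq (C := AddCommGrpCat.{u}) (Omega.sheaf f).presheaf (i x) hxW hxW _ _ heq
    have h' : res (Omega.sheaf f) i₁.le (res (Omega.sheaf f) h₂ (s j)) = res (Omega.sheaf f) i₁.le
        (resR h₄ p • dX f W (resR h₁ a₁) + resR h₄ q • dX f W (resR h₃ g₁)) := h
    refine ⟨W', hxW', i₁.le.trans h₁, i₁.le.trans h₂, i₁.le.trans h₃, resR i₁.le (resR h₄ p),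
      resR i₁.le (resR h₄ q), ?_⟩
    rw [res_res, map_add, res_smul, res_smul] at h'
    rw [h', ← resR_resR h₁ i₁.le a₁, ← resR_resR h₃ i₁.le g₁]
    exact congrArg₂ (fun (y z : Γ(Omega.sheaf f, W')) => resR i₁.le (resR h₄ p) • y + resR i₁.le (resR h₄ q) • z)
      (app_res _ _ (homOfLE i₁.le) _).symm (app_res _ _ (homOfLE i₁.le) _).symm
  choose W hxW hW₁ hW₂ hW₃ p q hW using hW
  let W₀ := W 0 ⊓ W 1
  obtain ⟨_, ⟨V, hV, rfl⟩, hxV, hVle⟩ :=
    X.isBasis_affineOpens.exists_subset_of_mem_open (show i x ∈ (W₀ : Set X) from ⟨hxW 0, hxW 1⟩) W₀.isOpen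
  have hVj : ∀ j, V ≤ W j := fun j z hz => by
    fin_cases j
    · exact (hVle hz).1
    · exact (hVle hz).2
  have hV₁ : V ≤ U₁.1 := (hVj 0).trans (hW₁ 0)
  have hV₂ : V ≤ U₂ := (hVj 0).trans (hW₂ 0)
  have hV₃ : V ≤ U₃ := (hVj 0).trans (hW₃ 0)
  have hframe : H23.Frame.IsFrame (Omega.sheaf f) ![dX f V (resR hV₁ a₁), dX f V (resR hV₃ g₁)] := by
    refine isFrame_of_generates (hs.res hV₂) (fun j => ![resR (hVj j) (p j), resR (hVj j) (q j)]) fun j => ?_
    rw [Fin.sum_univ_two]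
    have h := congrArg (res (Omega.sheaf f) (hVj j)) (hW j)
    rw [res_res, map_add, res_smul, res_smul] at h
    refine h.trans (congrArg₂ (fun (y z : Γ(Omega.sheaf f, V)) => resR (hVj j) (p j) • y + resR (hVj j) (q j) • z)
      ?_ ?_)
    · exact (app_res _ (OmegaSh.dOmega f) (homOfLE (hVj j)) _).symm.trans
        (congrArg (dX f V) (resR_resR (hW₁ j) (hVj j) a₁))
    · exact (app_res _ (OmegaSh.dOmega f) (homOfLE (hVj j)) _).symm.trans
        (congrArg (dX f V) (resR_resR (hW₃ j) (hVj j) g₁))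
  let O₀ : C.Opens := i ⁻¹ᵁ V ⊓ O₁ ⊓ O₂
  have hxO₀ : x ∈ O₀ := ⟨⟨hxV, hxO₁⟩, hxO₂⟩
  have hO₀V : O₀ ≤ i ⁻¹ᵁ V := fun z hz => hz.1.1
  have hO₀1 : O₀ ≤ O₁ := fun z hz => hz.1.2
  have hO₀2 : O₀ ≤ O₂ := fun z hz => hz.2
  let dg : Γ(Omega.sheaf (i ≫ f), i ⁻¹ᵁ V) := dC i f (i ⁻¹ᵁ V) (i.app V (resR hV₃ g₁))
  have heq : (Omega.sheaf (i ≫ f)).presheaf.germ O₀ x hxO₀ (res (Omega.sheaf (i ≫ f)) hO₀V dg) =
      (Omega.sheaf (i ≫ f)).presheaf.germ O₀ x hxO₀ (resR hO₀2 r₁ • res (Omega.sheaf (i ≫ f)) hO₀1 e) := by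
    show gm _ hxO₀ _ = gm _ hxO₀ _
    rw [gm_smul, gm_resM hO₀V hxO₀, gm_resM hO₀1 hxO₀, InvX.germ_resR', ← stalkD_germ,
      ← Scheme.Hom.germ_stalkMap_apply i V x hxV, InvX.germ_resR']
    exact hbr
  obtain ⟨O₃, hxO₃, j₁, j₂, h⟩ :=
    TopCat.Presheaf.germ_eq (C := AddCommGrpCat.{u}) (Omega.sheaf (i ≫ f)).presheaf x hxO₀ hxO₀ _ _ heq
  have hru : IsUnit (C.presheaf.germ O₂ x hxO₂ r₁) := hr
  let O : C.Opens := O₃ ⊓ C.basicOpen r₁
  have hO₃ : O ≤ O₃ := inf_le_left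
  refine ⟨⟨⟨V, hV⟩, resR hV₁ a₁, resR hV₃ g₁, O, hO₃.trans (j₁.le.trans hO₀V),
    ⟨hxO₃, (C.mem_basicOpen r₁ x hxO₂).2 hru⟩, ha₁.res (V := ⟨V, hV⟩) hV₁, hframe, ?_⟩⟩
  have h' := congrArg (res (Omega.sheaf (i ≫ f)) hO₃)
    (show res (Omega.sheaf (i ≫ f)) j₁.le _ = res (Omega.sheaf (i ≫ f)) j₂.le _ from h)
  rw [res_res, res_res, res_res, res_smul, res_res] at h'
  rw [show res (Omega.sheaf (i ≫ f)) (hO₃.trans (j₁.le.trans hO₀V)) dg = _ from h']
  refine (he.res _).isUnit_smul ?_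
  rw [resR_resR]
  exact isUnit_resR _ r₁ inf_le_right

theorem app_gen_eq_zero {V : X.affineOpens} {a : Γ(X, V.1)} (ha : ArSurfX.IsGen i.ker V a) :
    i.app V.1 a = 0 := by
  have h : a ∈ i.ker.ideal V := ha.2 ▸ Ideal.mem_span_singleton_self a
  rwa [Scheme.Hom.ker_apply, RingHom.mem_ker] at h

theorem restrSect_gen {V : X.affineOpens} {a : Γ(X, V.1)} (ha : ArSurfX.IsGen i.ker V a) :
    restrSect i f V.1 (dX f V.1 a) = 0 := by
  rw [restrSect_d, app_gen_eq_zero i ha, map_zero]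

variable {W : X.Modules}

/-- The adjunction isomorphism. -/
theorem nonempty_adjunction_iso [IsIntegral C] (hD : BlowUp.IsEffCartierIdeal i.ker)
    (hΩ : FlatMod.IsFinLocFreeOfRank 2 (Omega.sheaf f)) (hΩC : PicF.IsInvertible (Omega.sheaf (i ≫ f)))
    (hW : ExtPow.IsExtPow 2 (Omega.sheaf f) W) :
    Nonempty ((Scheme.Modules.pullback i).obj W ≅
      CohB1.tensorMod ((Scheme.Modules.pullback i).obj (ClSub.idealMod i.ker)) (Omega.sheaf (i ≫ f))) := by
  obtain ⟨φ, hφ⟩ := hW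
  let ch := fun x => (nonempty_chart i f hD hΩ hΩC x).some
  choose kk hkk hkf using fun x => ArSurfX.exists_frame_of_isGen (ch x).isGen
  let eW : ∀ x, Γ(W, (ch x).V.1) := fun x =>
    (φ (ch x).V).symm (wedge (dX f _ (ch x).a) (dX f _ (ch x).g))
  have heW : ∀ x, InvX.IsFrame (eW x) := fun x => isFrame_wedge φ hφ _ _ (ch x).frame
  refine CurveCohLib.Polar.nonempty_iso_of_frames (fun x => (ch x).O) (fun x => ⟨x, (ch x).mem⟩)
    (fun x => res _ (ch x).hOV (InvX.pullElt i (eW x)))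
    (fun x => InvX.tmul (res _ (ch x).hOV (InvX.pullElt i (kk x)))
      (res _ (ch x).hOV (dC i f _ (i.app _ (ch x).g))))
    (fun x => (InvX.isFrame_pullElt i (heW x)).res _)
    (fun x => InvX.isFrame_tmul ((InvX.isFrame_pullElt i (hkf x)).res _) (ch x).frameC) ?_
  intro x y O hx hy g hg
  refine eq_of_locally _ _ fun p hp => ?_
  let A := ch x
  let B := ch y
  obtain ⟨_, ⟨V, hV, rfl⟩, hpV, hVle⟩ := X.isBasis_affineOpens.exists_subset_of_mem_open
    (show i p ∈ (A.V.1 ⊓ B.V.1 : X.Opens) from ⟨A.hOV (hx hp), B.hOV (hy hp)⟩) (A.V.1 ⊓ B.V.1).isOpen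
  have hVA : V ≤ A.V.1 := fun z hz => (hVle hz).1
  have hVB : V ≤ B.V.1 := fun z hz => (hVle hz).2
  let O' : C.Opens := O ⊓ i ⁻¹ᵁ V
  have hO'O : O' ≤ O := inf_le_left
  have hO'V : O' ≤ i ⁻¹ᵁ V := inf_le_right
  refine ⟨O', hO'O, ⟨hp, hpV⟩, ?_⟩
  let Va : X.affineOpens := ⟨V, hV⟩
  have gA := A.isGen.res (V := Va) hVA
  have gB := B.isGen.res (V := Va) hVB
  obtain ⟨u, hu⟩ := Ideal.mem_span_singleton'.1
    (show resR hVB B.a ∈ Ideal.span {resR hVA A.a} from gA.2 ▸ gB.2 ▸ Ideal.mem_span_singleton_self _)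
  let dfA : Γ(Omega.sheaf f, V) := dX f V (resR hVA A.a)
  let dgA : Γ(Omega.sheaf f, V) := dX f V (resR hVA A.g)
  have hdres : ∀ {U : X.Opens} (h : V ≤ U) (s : Γ(X, U)),
      res (Omega.sheaf f) h (dX f U s) = dX f V (resR h s) := fun h s =>
    (app_res _ (OmegaSh.dOmega f) (homOfLE h) s).symm
  have hfrA : H23.Frame.IsFrame (Omega.sheaf f) ![dX f A.V.1 A.a, dX f A.V.1 A.g] := A.frame
  obtain ⟨α, β, hαβ⟩ := exists_two hfrA hVA (dX f V (resR hVB B.g))
  obtain ⟨c₁, c₂, hc⟩ := exists_two hfrA hVA (dX f V u)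
  rw [hdres hVA, hdres hVA] at hαβ hc
  have hda : dX f V (resR hVB B.a) =
      (u + resR hVA A.a * c₁) • dfA + (resR hVA A.a * c₂) • dgA := by
    rw [← hu, app_mul]
    show u • dfA + resR hVA A.a • dX f V u = _
    rw [hc, smul_add, ← mul_smul, ← mul_smul, ← add_assoc, ← add_smul]
  let t : Γ(X, V) := (u + resR hVA A.a * c₁) * β - resR hVA A.a * c₂ * α
  have heWres : ∀ (z : C) (h : V ≤ (ch z).V.1), res W h (eW z) =
      (φ Va).symm (wedge (dX f V (resR h (ch z).a)) (dX f V (resR h (ch z).g))) := fun z h =>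
    (hφ (ch z).V Va h _).trans (congrArg _ (congrArg _ (by
      funext j
      fin_cases j
      · exact hdres h _
      · exact hdres h _)))
  have heB : res W hVB (eW y) = t • res W hVA (eW x) := by
    rw [heWres y hVB, heWres x hVA]
    show (φ Va).symm (wedge (dX f V (resR hVB B.a)) (dX f V (resR hVB B.g))) = t • (φ Va).symm (wedge dfA dgA)
    rw [hda, hαβ, wedge_comb]
    exact (φ Va).symm.map_smul _ _
  have hk : res (ClSub.idealMod i.ker) hVB (kk y) = u • res (ClSub.idealMod i.ker) hVA (kk x) := by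
    refine OmegaLib.idealSect_injective i.ker V ?_
    rw [OmegaLib.idealSect_smul]
    have e1 := OmegaLib.idealSect_map i.ker hVB (kk y)
    have e2 := OmegaLib.idealSect_map i.ker hVA (kk x)
    rw [show (OmegaSh.idealSect i.ker V) (res (ClSub.idealMod i.ker) hVB (kk y)) = _ from e1,
      show (OmegaSh.idealSect i.ker V) (res (ClSub.idealMod i.ker) hVA (kk x)) = _ from e2, hkk, hkk]
    exact hu.symm
  have hdgB : dC i f (i ⁻¹ᵁ V) (i.app V (resR hVB B.g)) =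
      i.app V β • dC i f (i ⁻¹ᵁ V) (i.app V (resR hVA A.g)) := by
    have z : restrSect i f V dfA = 0 := restrSect_gen i f gA
    rw [← restrSect_d, hαβ, restrSect_comb, z, smul_zero, zero_add, restrSect_d]
  have z0 : i.app V (resR hVA A.a) = 0 := app_gen_eq_zero i gA
  have htC : i.app V t = i.app V u * i.app V β := by
    simp only [t, map_sub, map_mul, map_add, z0, zero_mul, add_zero, sub_zero]
  have hresP : ∀ {M : X.Modules} {U : X.Opens} (h : V ≤ U) (m : Γ(M, U)),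
      res ((Scheme.Modules.pullback i).obj M) (i.preimage_mono h) (InvX.pullElt i m) =
        InvX.pullElt i (res M h m) := fun h m => (OmegaSh.pullSect_map i _ h m).symm
  have hsmulP : ∀ {M : X.Modules} (c : Γ(X, V)) (m : Γ(M, V)),
      InvX.pullElt i (c • m) = i.app V c • InvX.pullElt i m := fun c m => OmegaSh.pullSect_smul i _ V c m
  have hg' : resR hO'O g = resR hO'V (i.app V t) := by
    refine ((InvX.isFrame_pullElt i ((heW x).res hVA)).res hO'V).coord_unique le_rfl ?_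
    have h1 := congrArg (res _ hO'O) hg
    simp only [res_res, res_smul] at h1
    rw [res_res]
    show resR hO'O g • res _ hO'V (InvX.pullElt i (res W hVA (eW x))) =
      resR hO'V (i.app V t) • res _ hO'V (InvX.pullElt i (res W hVA (eW x)))
    rw [← res_smul, ← hsmulP, ← heB, ← hresP, ← hresP, res_res, res_res]
    exact h1.symm
  rw [res_res, res_smul, res_res, InvX.res_tmul, InvX.res_tmul, res_res, res_res, res_res, res_res, hg',
    htC, map_mul]
  have e1 : ∀ (z : C) (h : V ≤ (ch z).V.1) (h' : O' ≤ i ⁻¹ᵁ (ch z).V.1),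
      res ((Scheme.Modules.pullback i).obj (ClSub.idealMod i.ker)) h' (InvX.pullElt i (kk z)) =
        res _ hO'V (InvX.pullElt i (res _ h (kk z))) := fun z h h' => by
    rw [← hresP, res_res]
  have e2 : ∀ (z : C) (h : V ≤ (ch z).V.1) (h' : O' ≤ i ⁻¹ᵁ (ch z).V.1),
      res (Omega.sheaf (i ≫ f)) h' (dC i f _ (i.app _ (ch z).g)) =
        res _ hO'V (dC i f (i ⁻¹ᵁ V) (i.app V (resR h (ch z).g))) := fun z h h' => by
    rw [app_resR]
    refine (res_res (i.preimage_mono h) hO'V _).symm.trans (congrArg _ ?_)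
    exact (app_res _ (OmegaSh.dOmega (i ≫ f)) (homOfLE (i.preimage_mono h)) _).symm
  rw [e1 y hVB, e1 x hVA, e2 y hVB, e2 x hVA, hk, hsmulP, res_smul, hdgB, res_smul,
    InvX.tmul_smul_left, InvX.tmul_smul_right, smul_smul]

end Groth.Agent.SurfInt.Adj
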