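import Groth.Agent.SurfInt.Adj.Curve
import Groth.Agent.SurfInt.Adj.Hyperplane
import Groth.Agent.SurfInt.Split
import Groth.Agent.SurfInt.Positive
import Groth.Agent.AmpleX.Generated

/-! Riemann–Roch on a smooth projective surface. -/

noncomputable section

set_option linter.style.haveILetI false
set_option linter.unusedSectionVars false
set_option backward.isDefEq.respectTransparency false
set_option backward.isDefEq.respectTransparency.types false

universe u

open CategoryTheory CategoryTheory.Limits AlgebraicGeometry TopologicalSpace Opposite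

namespace Groth.Agent.SurfInt.Adj

open Groth.Agent

variable (k : Type u) [Field k] {X : Scheme.{u}} [X.Over (Spec (CommRingCat.of k))]
  [IsProper (X ↘ Spec (CommRingCat.of k))]

/-- The defect of the Riemann–Roch formula. -/
def defect (W L : X.Modules) : ℤ :=
  2 * Curv2.euler k X L - dot k L L + dot k L W - 2 * Curv2.euler k X (Coh.structureModule X)

section

variable (hd : topologicalKrullDim X ≤ 2) {W : X.Modules} (hWi : PicF.IsInvertible W)

include hd hWi

theorem defect_tensor {A B : X.Modules} (hA : PicF.IsInvertible A) (hB : PicF.IsInvertible B) :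
    defect k W (CohB1.tensorMod A B) = defect k W A + defect k W B := by
  have hAB := H23.PicMul.isInvertible_tensor hA hB
  simp only [defect, euler_tensor_eq k hd hA hB, dot_tensor_left k hd hA hB hAB, dot_tensor_right k hd hA hB hA,
    dot_tensor_right k hd hA hB hB, dot_tensor_left k hd hA hB hWi, dot_comm k hd hB hA]
  ring

theorem defect_congr {A B : X.Modules} (hA : PicF.IsInvertible A) (e : A ≅ B) : defect k W A = defect k W B := by
  simp only [defect, CurveCohLib.euler_congr (k := k) e, dot_congr k hd hA hA e e,
    dot_congr k hd hA hWi e (Iso.refl W)]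

theorem defect_one : defect k W (Coh.structureModule X) = 0 := by
  simp only [defect, dot_one_left k hd isInvertible_structure, dot_one_left k hd hWi]
  ring

theorem defect_inverse {A B : X.Modules} (hA : PicF.IsInvertible A) (hB : PicF.IsInvertible B)
    (e : ClSub.IsInverseOf A B) : defect k W A = - defect k W B := by
  obtain ⟨e⟩ := e
  have h := defect_tensor k hd hWi hA hB
  rw [defect_congr k hd hWi (H23.PicMul.isInvertible_tensor hA hB) e, defect_one k hd hWi] at h
  omega

theorem defect_pow {A : X.Modules} (hA : PicF.IsInvertible A) (n : ℕ) :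
    defect k W (CohB1.tensorPow A n) = n * defect k W A := by
  induction n with
  | zero =>
    show defect k W (Coh.structureModule X) = _
    rw [defect_one k hd hWi]; simp
  | succ n ih =>
    show defect k W (CohB1.tensorMod (CohB1.tensorPow A n) A) = _
    rw [defect_tensor k hd hWi (H23.PicMul.isInvertible_tensorPow hA n) hA, ih]
    push_cast; ring

end

theorem smoothDiv_factor {F G : X.IdealSheafData} (hG : BlowUp.IsEffCartierIdeal G)
    (hdis : Disjoint (F.support : Set X) (G.support : Set X)) (h : SmoothDiv (F * G)) : SmoothDiv F := by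
  intro x U hxU a hxc hxF ha
  obtain ⟨V, hxV, b, hb⟩ := ArSurfX.exists_isGen hG x
  obtain ⟨_, ⟨Z, hZ, rfl⟩, hxZ, hle⟩ :=
    X.isBasis_affineOpens.exists_subset_of_mem_open (show x ∈ (U.1 ⊓ V.1 : X.Opens) from ⟨hxU, hxV⟩) (U.1 ⊓ V.1).isOpen
  have hZU : Z ≤ U.1 := fun z hz => (hle hz).1
  have hZV : Z ≤ V.1 := fun z hz => (hle hz).2
  have hab := (ha.res (V := ⟨Z, hZ⟩) hZU).mul (hb.res (V := ⟨Z, hZ⟩) hZV)
  have hsup : x ∈ ((F * G).support : Set X) := by
    rw [Scheme.IdealSheafData.support_mul]
    exact Or.inl hxF
  have h1 := h x ⟨Z, hZ⟩ hxZ _ hxc hsup hab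
  have hxG : x ∉ (G.support : Set X) := hdis.notMem_of_mem_left hxF
  have hub : IsUnit (X.presheaf.germ V.1 x hxV b) := by
    by_contra hnu
    refine hxG ((Scheme.IdealSheafData.mem_support_iff_of_mem hxV).2 ?_)
    rw [hb.2, Scheme.zeroLocus_span, Scheme.mem_zeroLocus_iff]
    intro f hf hmem
    rw [Set.mem_singleton_iff.1 hf] at hmem
    exact hnu ((X.mem_basicOpen b x hxV).1 hmem)
  rw [map_mul, InvX.germ_resR', InvX.germ_resR', Ideal.span_singleton_mul_right_unit hub] at h1
  exact h1

variable [IsAlgClosed k] [IsIntegral X] (hdim : topologicalKrullDim X = 2)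
  (hreg : ∀ x : X, IsRegularLocalRing (X.presheaf.stalk x)) {W : X.Modules}
  (hW : ExtPow.IsExtPow 2 (Omega.sheaf (X ↘ Spec (CommRingCat.of k))) W)

include hdim hreg hW

theorem defect_smoothDiv (D : X.IdealSheafData) (hD : BlowUp.IsEffCartierIdeal D) (hS : SmoothDiv D) :
    defect k W (ClSub.idealMod D) = 0 := by
  haveI := noeth k (X := X)
  haveI := wellFoundedGT_ideals (X := X)
  have hWi := isInvertible_canonical k hdim hreg hW
  induction D using WellFoundedGT.induction with
  | ind D ih =>
    by_cases hne : D = ⊤
    · obtain ⟨e⟩ := ArSurfX.nonempty_idealMod_one (X := X)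
      rw [hne, defect_congr k hdim.le hWi ((S8914.result _).2 (BlowUpLib.isEffCartier_top X)) (show ClSub.idealMod (⊤ : X.IdealSheafData) ≅ Coh.structureModule X from e.symm),
        defect_one k hdim.le hWi]
    by_cases hconn : ConnectedSpace D.subscheme
    · letI : D.subscheme.Over (Spec (CommRingCat.of k)) := ⟨D.subschemeι ≫ (X ↘ Spec (CommRingCat.of k))⟩
      haveI : IsProper (D.subscheme ↘ Spec (CommRingCat.of k)) := isProper_comp k D.subschemeι rfl
      haveI := noeth k (X := D.subscheme)
      have hcl : ∀ c : D.subscheme, IsClosed ({c} : Set D.subscheme) → IsRegularLocalRing (D.subscheme.presheaf.stalk c) := by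
        intro c hc
        obtain ⟨U, hxU, a, ha⟩ := ArSurfX.exists_isGen hD (D.subschemeι c)
        have hxc : IsClosed ({D.subschemeι c} : Set X) := by
          rw [← Set.image_singleton]
          exact D.subschemeι.isClosedEmbedding.isClosedMap _ hc
        haveI := hS _ U hxU a hxc (D.range_subschemeι.le ⟨c, rfl⟩) ha
        have hker : RingHom.ker (D.subschemeι.stalkMap c).hom = Ideal.span {X.presheaf.germ U.1 _ hxU a} := by
          rw [DeformNL.HBSpread.ker_stalkMap D.subschemeι U c hxU, D.ker_subschemeι, ha.2, Ideal.map_span,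
            Set.image_singleton]
        exact IsRegularLocalRing.of_ringEquiv ((Ideal.quotEquivOfEq hker.symm).trans
          (RingHom.quotientKerEquivOfSurjective (D.subschemeι.stalkMap_surjective c)))
      haveI := smooth_of_regular_closed k (D.subscheme ↘ Spec (CommRingCat.of k)) hcl
      haveI := CurveCohLib.isIntegral_of_smooth_connected (D.subscheme ↘ Spec (CommRingCat.of k))
      obtain ⟨C, hCI, hCd, hDC⟩ := exists_curve_le k hdim hD hne
      have hd1 : topologicalKrullDim D.subscheme = 1 := by
        rw [dim_subscheme D]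
        refine le_antisymm (dim_support_effCartier k hdim hD) ?_
        rw [← hCd]
        exact H23.TopDim.dim_le_dim_of_subset (Scheme.IdealSheafData.support_antitone hDC)
      have h := (adjunction k hdim hreg hW D.subscheme D.subschemeι rfl hd1 hcl
        (D.ker_subschemeι.symm ▸ hD)).2
      rw [D.ker_subschemeι] at h
      exact h
    · have hnon : Nonempty D.subscheme := by
        obtain ⟨C, hCI, hCd, hDC⟩ := exists_curve_le k hdim hD hne
        obtain ⟨c, hc⟩ := D.range_subschemeι.ge (Scheme.IdealSheafData.support_antitone hDC (genC_mem C))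
        exact ⟨c⟩
      have hnp : ¬ PreconnectedSpace D.subscheme := fun h => hconn { toPreconnectedSpace := h, toNonempty := hnon }
      rw [preconnectedSpace_iff_clopen] at hnp
      push Not at hnp
      obtain ⟨s, hs, hs0, hs1⟩ := hnp
      have hemb := D.subschemeι.isClosedEmbedding
      obtain ⟨F, G, hF, hG, hFG, hFs, hGs⟩ := exists_split hD (A := D.subschemeι '' s) (B := D.subschemeι '' sᶜ)
        (hemb.isClosedMap _ hs.isClosed) (hemb.isClosedMap _ hs.compl.isClosed)
        (by rw [← Set.image_union, Set.union_compl_self, Set.image_univ, D.range_subschemeι])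
        ((Set.disjoint_image_iff hemb.injective).2 disjoint_compl_right)
      have hdis : Disjoint (F.support : Set X) (G.support : Set X) := by
        rw [hFs, hGs]; exact (Set.disjoint_image_iff hemb.injective).2 disjoint_compl_right
      have hlt : ∀ {A B : X.IdealSheafData}, D = A * B → Disjoint (A.support : Set X) (B.support : Set X) →
          (B.support : Set X).Nonempty → D < A := fun {A B} hAB hd' hB => by
        refine lt_of_le_of_ne (fun U => ?_) fun e => ?_
        · rw [hAB, Scheme.IdealSheafData.ideal_mul, Pi.mul_apply]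
          exact Ideal.mul_le_left
        · obtain ⟨y, hy⟩ := hB
          refine hd'.notMem_of_mem_right hy ?_
          rw [← e, hAB, Scheme.IdealSheafData.support_mul]
          exact Or.inr hy
      have h1 := ih F (hlt hFG hdis (hGs ▸ (Set.nonempty_compl.2 hs1).image _)) hF
        (smoothDiv_factor hG hdis (hFG ▸ hS))
      have h2 := ih G (hlt (by rw [hFG, mul_comm]) hdis.symm (hFs ▸ hs0.image _)) hG
        (smoothDiv_factor hF hdis.symm (mul_comm F G ▸ hFG ▸ hS))
      have hFi := (S8914.result _).2 hF
      have hGi := (S8914.result _).2 hG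
      rw [hFG, defect_congr k hdim.le hWi ((S8914.result _).2 (ModPairLib.isEffCartier_mul hF hG))
        (ArSurfX.nonempty_idealMod_mul hF hG).some.symm, defect_tensor k hdim.le hWi hFi hGi, h1, h2]
      rfl

theorem defect_ample {A : X.Modules} (hA : CohB1.IsAmple A) : defect k W A = 0 := by
  obtain ⟨D, m, hm, hD, hS, hinv⟩ := exists_smoothDiv hreg (X ↘ Spec (CommRingCat.of k)) hA
  have hWi := isInvertible_canonical k hdim hreg hW
  have h := defect_inverse k hdim.le hWi (H23.PicMul.isInvertible_tensorPow hA.1 m) ((S8914.result _).2 hD) hinv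
  rw [defect_pow k hdim.le hWi hA.1, defect_smoothDiv k hdim hreg hW D hD hS, neg_zero] at h
  rcases mul_eq_zero.1 h with h | h
  · omega
  · exact h

theorem defect_eq_zero {A : X.Modules} (hA : CohB1.IsAmple A) {L : X.Modules} (hL : PicF.IsInvertible L) :
    defect k W L = 0 := by
  haveI := noeth k (X := X)
  haveI : X.IsSeparated := ⟨by
    rw [← Limits.terminal.comp_from (X ↘ Spec (CommRingCat.of k))]
    infer_instance⟩
  obtain ⟨n, -, hn⟩ := AmpleX.eventually_ample_tensor hA hL
  have hWi := isInvertible_canonical k hdim hreg hW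
  have h := defect_ample k hdim hreg hW (hn n le_rfl).1
  rw [defect_tensor k hdim.le hWi (H23.PicMul.isInvertible_tensorPow hA.1 n) hL, defect_pow k hdim.le hWi hA.1,
    defect_ample k hdim hreg hW hA] at h
  simpa using h

/-- Riemann–Roch. -/
theorem riemann_roch {A : X.Modules} (hA : CohB1.IsAmple A) {L : X.Modules} (hL : PicF.IsInvertible L) :
    2 * Curv2.euler k X L = dot k L L - dot k L W + 2 * Curv2.euler k X (Coh.structureModule X) := by
  have h := defect_eq_zero k hdim hreg hW hA hL
  simp only [defect] at h
  omega

end Groth.Agent.SurfInt.Adj
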